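import Groth.Agent.CSAStruct.Division
import Groth.Prelude.Def_Curves
import Mathlib.Algebra.BrauerGroup.Defs
import Mathlib.Algebra.Central.End
import Mathlib.RingTheory.SimpleModule.IsAlgClosed
import Mathlib.FieldTheory.IsSepClosed
import Mathlib.FieldTheory.IsAlgClosed.AlgebraicClosure
import Mathlib.RingTheory.MatrixAlgebra
import Mathlib.LinearAlgebra.Dual.Lemmas
import Mathlib.RingTheory.TensorProduct.Free

/-! Splitting fields of central simple algebras. -/

universe u v w

open TensorProduct

namespace Groth.Agent.CSAStruct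

variable (k : Type u) [Field k]

/-- An algebra map from a simple algebra to a nontrivial algebra of the same dimension is bijective. -/
theorem bijective_of_finrank_eq {L : Type w} [Field L] {R : Type v} [Ring R] [Algebra L R]
    [IsSimpleRing R] [FiniteDimensional L R] {S : Type*} [Ring S] [Algebra L S] [Nontrivial S]
    [FiniteDimensional L S] (f : R →ₐ[L] S) (h : Module.finrank L R = Module.finrank L S) :
    Function.Bijective f :=
  ⟨injective_algHom L f, (LinearMap.injective_iff_surjective_of_finrank_eq_finrank h
    (f := f.toLinearMap)).1 (injective_algHom L f)⟩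

section

variable (A : Type v) [Ring A] [Algebra k A] [Algebra.IsCentral k A] [IsSimpleRing A]

theorem isSimpleRing_baseChange (L : Type w) [Field L] [Algebra k L] : IsSimpleRing (L ⊗[k] A) :=
  IsSimpleRing.of_ringEquiv (Algebra.TensorProduct.comm k A L).toRingEquiv
    (CSALib.isSimpleRing_tensorProduct k A L)

variable [FiniteDimensional k A]

theorem splits_iff_exists_hom (L : Type w) [Field L] [Algebra k L] :
    Curves.Splits k A L ↔ ∃ n : ℕ, n ≠ 0 ∧ Module.finrank k A = n * n ∧
      Nonempty (A →ₐ[k] Matrix (Fin n) (Fin n) L) := by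
  constructor
  · rintro ⟨n, hn, ⟨E⟩⟩
    refine ⟨n, hn, ?_, ⟨(E.toAlgHom.restrictScalars k).comp Algebra.TensorProduct.includeRight⟩⟩
    have := E.toLinearEquiv.finrank_eq
    rwa [Module.finrank_baseChange, Module.finrank_matrix, Module.finrank_self, Fintype.card_fin,
      mul_one] at this
  · rintro ⟨n, hn, hdim, ⟨g⟩⟩
    haveI : NeZero n := ⟨hn⟩
    haveI := isSimpleRing_baseChange k A L
    let f : L ⊗[k] A →ₐ[L] Matrix (Fin n) (Fin n) L :=
      Algebra.TensorProduct.lift (Algebra.ofId L _) g (fun l a => Algebra.commutes l (g a))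
    refine ⟨n, hn, ⟨AlgEquiv.ofBijective f (bijective_of_finrank_eq f ?_)⟩⟩
    rw [Module.finrank_baseChange, hdim, Module.finrank_matrix, Module.finrank_self, Fintype.card_fin,
      mul_one]

theorem splits_of_algHom (L : Type w) [Field L] [Algebra k L] {K : Type*} [Field K] [Algebra k K]
    (ι : L →ₐ[k] K) (h : Curves.Splits k A L) : Curves.Splits k A K := by
  obtain ⟨n, hn, hd, ⟨g⟩⟩ := (splits_iff_exists_hom k A L).1 h
  exact (splits_iff_exists_hom k A K).2 ⟨n, hn, hd, ⟨ι.mapMatrix.comp g⟩⟩

theorem splits_of_algEquiv (L : Type w) [Field L] [Algebra k L] {B : Type*} [Ring B] [Algebra k B]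
    [Algebra.IsCentral k B] [IsSimpleRing B] [FiniteDimensional k B] (e : A ≃ₐ[k] B)
    (h : Curves.Splits k A L) : Curves.Splits k B L := by
  obtain ⟨n, hn, hd, ⟨g⟩⟩ := (splits_iff_exists_hom k A L).1 h
  exact (splits_iff_exists_hom k B L).2 ⟨n, hn, e.toLinearEquiv.finrank_eq ▸ hd,
    ⟨g.comp e.symm.toAlgHom⟩⟩

theorem splits_matrix (L : Type w) [Field L] [Algebra k L] (m : ℕ) (hm : m ≠ 0)
    (h : Curves.Splits k A L) : Curves.Splits k (Matrix (Fin m) (Fin m) A) L := by
  haveI : NeZero m := ⟨hm⟩
  obtain ⟨n, hn, hd, ⟨g⟩⟩ := (splits_iff_exists_hom k A L).1 h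
  refine (splits_iff_exists_hom k _ L).2 ⟨m * n, Nat.mul_ne_zero hm hn, ?_,
    ⟨(((Matrix.compAlgEquiv (Fin m) (Fin n) L k).trans
      (Matrix.reindexAlgEquiv k L finProdFinEquiv)).toAlgHom).comp g.mapMatrix⟩⟩
  rw [Module.finrank_matrix, Fintype.card_fin, hd]
  ring

/-- A CSA containing a field of square-root dimension is split by it. -/
theorem splits_of_algHom_sq (L : Type w) [Field L] [Algebra k L] [FiniteDimensional k L]
    (φ : L →ₐ[k] A) (h : Module.finrank k A = Module.finrank k L * Module.finrank k L) :
    Curves.Splits k A L := by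
  haveI : IsSimpleRing L := inferInstance
  let ρ : L →ₐ[k] Module.End k A :=
    { toFun := fun l => LinearMap.mulRight k (φ l)
      map_one' := LinearMap.ext fun x => by simp
      map_mul' := fun a b => LinearMap.ext fun x => by
        simp only [LinearMap.mulRight_apply, Module.End.mul_apply]
        rw [mul_comm a b, map_mul, mul_assoc]
      map_zero' := LinearMap.ext fun x => by simp
      map_add' := fun a b => LinearMap.ext fun x => by simp [mul_add]
      commutes' := fun r => LinearMap.ext fun x => by
        simp [Module.algebraMap_end_apply, Algebra.smul_def, Algebra.commutes] }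
  let W := RepSpace k L ρ
  haveI : FiniteDimensional L W := FiniteDimensional.right k L W
  have hW : Module.finrank L W = Module.finrank k L := by
    have := Module.finrank_mul_finrank k L W
    change Module.finrank k L * Module.finrank L W = Module.finrank k A at this
    rw [h] at this
    exact Nat.eq_of_mul_eq_mul_left Module.finrank_pos this
  let g : A →ₐ[k] Module.End L W :=
    { toFun := fun a =>
        { toFun := fun x => @HMul.hMul A A A _ a x
          map_add' := fun x y => mul_add (R := A) a x y
          map_smul' := fun l x => (mul_assoc (G := A) a x (φ l)).symm }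
      map_one' := LinearMap.ext fun x => one_mul (M := A) _
      map_mul' := fun a b => LinearMap.ext fun x => mul_assoc (G := A) a b _
      map_zero' := LinearMap.ext fun x => zero_mul (M₀ := A) _
      map_add' := fun a b => LinearMap.ext fun x => add_mul (R := A) a b _
      commutes' := fun r => LinearMap.ext fun x => (Algebra.smul_def (A := A) r _).symm }
  let b := Module.finBasisOfFinrankEq L W hW
  exact (splits_iff_exists_hom k A L).2 ⟨Module.finrank k L, Module.finrank_pos.ne', h,
    ⟨((algEquivMatrix b).toAlgHom.restrictScalars k).comp g⟩⟩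

/-- Wedderburn: a CSA is `M_n` of a central division algebra. -/
theorem exists_division :
    ∃ (n : ℕ) (_ : n ≠ 0) (D : Type v) (_ : DivisionRing D) (_ : Algebra k D)
      (_ : FiniteDimensional k D) (_ : Algebra.IsCentral k D),
      Nonempty (A ≃ₐ[k] Matrix (Fin n) (Fin n) D) := by
  haveI : IsArtinianRing A := IsArtinianRing.of_finite k A
  obtain ⟨n, hn, D, _, _, _, ⟨e⟩⟩ := IsSimpleRing.exists_algEquiv_matrix_divisionRing_finite k A
  refine ⟨n, hn.out, D, inferInstance, inferInstance, inferInstance, ⟨fun z hz => ?_⟩, ⟨e⟩⟩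
  rw [Subalgebra.mem_center_iff] at hz
  have hc : e.symm (Matrix.scalar (Fin n) z) ∈ Subalgebra.center k A := by
    rw [Subalgebra.mem_center_iff]
    intro a
    apply e.injective
    rw [map_mul, map_mul, AlgEquiv.apply_symm_apply]
    exact ((Matrix.scalar_commute z (fun r' => (hz r').symm) (e a)).eq).symm
  obtain ⟨c, hc⟩ := Algebra.mem_bot.1 (Algebra.IsCentral.out hc)
  refine Algebra.mem_bot.2 ⟨c, ?_⟩
  have h2 := congrArg e hc
  rw [AlgEquiv.commutes, AlgEquiv.apply_symm_apply] at h2
  exact Matrix.scalar_inj.1 h2

/-- Every CSA over `k` is split by a finite separable extension inside the separable closure. -/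
theorem exists_intermediateField_splits :
    ∃ F : IntermediateField k (SeparableClosure k), FiniteDimensional k F ∧ Curves.Splits k A F := by
  obtain ⟨n, hn, D, _, _, _, _, ⟨e⟩⟩ := exists_division k A
  obtain ⟨L, hcomm, hsep, hL⟩ := exists_separable_selfCentralizing k D
  haveI : IsSimpleRing L := isSimpleRing_of_isDomain k L
  have hdim := finrank_eq_mul_finrank_centralizer k L
  rw [hL] at hdim
  letI : CommRing L := { (inferInstance : Ring L) with mul_comm := fun a b => Subtype.ext (hcomm a a.2 b b.2) }
  letI : Field L := fieldOfFiniteDimensional k L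
  have hDL : Curves.Splits k D L := splits_of_algHom_sq k D L L.val hdim
  let j : L →ₐ[k] SeparableClosure k := IsSepClosed.lift
  haveI : NeZero n := ⟨hn⟩
  refine ⟨j.fieldRange, Module.Finite.equiv (AlgEquiv.ofInjectiveField j).toLinearEquiv, ?_⟩
  exact splits_of_algEquiv k _ _ e.symm (splits_matrix k D _ n hn
    (splits_of_algHom k D L (AlgEquiv.ofInjectiveField j).toAlgHom hDL))

theorem exists_finite_separable_splitting :
    ∃ (k' : Type u) (_ : Field k') (_ : Algebra k k'), FiniteDimensional k k' ∧
      Algebra.IsSeparable k k' ∧ Curves.Splits k A k' := by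
  obtain ⟨F, hF, hs⟩ := exists_intermediateField_splits k A
  exact ⟨F, inferInstance, inferInstance, hF, inferInstance, hs⟩

theorem exists_galois_splitting :
    ∃ (k' : Type u) (_ : Field k') (_ : Algebra k k'), FiniteDimensional k k' ∧
      IsGalois k k' ∧ Curves.Splits k A k' := by
  obtain ⟨F, hF, hs⟩ := exists_intermediateField_splits k A
  exact ⟨IntermediateField.normalClosure k F (SeparableClosure k), inferInstance, inferInstance,
    inferInstance, inferInstance,
    splits_of_algHom k A F (IntermediateField.inclusion (IntermediateField.le_normalClosure F)) hs⟩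

end

/-- Descent: an algebra which becomes a matrix algebra over an extension is a CSA. -/
theorem csa_of_splits (A : Type v) [Ring A] [Algebra k A] (L : Type w) [Field L] [Algebra k L]
    (h : Curves.Splits k A L) :
    Algebra.IsCentral k A ∧ IsSimpleRing A ∧ FiniteDimensional k A := by
  obtain ⟨n, hn, ⟨E⟩⟩ := h
  haveI : NeZero n := ⟨hn⟩
  haveI : IsSimpleRing (L ⊗[k] A) := IsSimpleRing.of_ringEquiv E.symm.toRingEquiv inferInstance
  haveI : FiniteDimensional L (L ⊗[k] A) := Module.Finite.equiv E.symm.toLinearEquiv
  have hfd : FiniteDimensional k A := by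
    let b := Module.Free.chooseBasis k A
    haveI := Module.Finite.finite_basis (Algebra.TensorProduct.basis L b)
    exact Module.Finite.of_basis b
  haveI : Nontrivial A := by
    rcases subsingleton_or_nontrivial A with hA | hA
    · exfalso
      have : (1 : L ⊗[k] A) = 0 := by
        rw [Algebra.TensorProduct.one_def, Subsingleton.elim (1 : A) 0, TensorProduct.tmul_zero]
      exact one_ne_zero this
    · exact hA
  have hinj : Function.Injective (Algebra.TensorProduct.includeRight : A →ₐ[k] L ⊗[k] A) :=
    Algebra.TensorProduct.includeRight_injective (algebraMap k L).injective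
  refine ⟨⟨fun z hz => ?_⟩, IsSimpleRing.of_eq_bot_or_eq_top fun I => ?_, hfd⟩
  · rw [Subalgebra.mem_center_iff] at hz
    have hc : E ((1 : L) ⊗ₜ z) ∈ Subalgebra.center L (Matrix (Fin n) (Fin n) L) := by
      rw [Subalgebra.mem_center_iff]
      intro M
      obtain ⟨y, rfl⟩ := E.surjective M
      rw [← map_mul, ← map_mul]
      congr 1
      induction y with
      | zero => simp
      | tmul l a => rw [Algebra.TensorProduct.tmul_mul_tmul, Algebra.TensorProduct.tmul_mul_tmul, one_mul, mul_one, hz a]
      | add a b ha hb => rw [mul_add, add_mul, ha, hb]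
    obtain ⟨c, hc⟩ := Algebra.mem_bot.1 (Algebra.IsCentral.out hc)
    have h1 : algebraMap L (L ⊗[k] A) c = (1 : L) ⊗ₜ z := E.injective (by rw [AlgEquiv.commutes, hc])
    rw [Algebra.mem_bot]
    by_contra hzbot
    have hzs : z ∉ Submodule.span k ({1} : Set A) := by
      rw [Submodule.mem_span_singleton]
      rintro ⟨a, ha⟩
      exact hzbot ⟨a, by rw [← ha, Algebra.algebraMap_eq_smul_one]⟩
    obtain ⟨ψ, hψ, hψ1⟩ := Submodule.exists_dual_map_eq_bot_of_notMem hzs inferInstance
    have hone : ψ 1 = 0 := by
      have : ψ 1 ∈ (Submodule.span k ({1} : Set A)).map ψ := ⟨1, Submodule.subset_span rfl, rfl⟩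
      rwa [hψ1, Submodule.mem_bot] at this
    have h2 := congrArg (LinearMap.lTensor L ψ) h1
    rw [Algebra.TensorProduct.algebraMap_apply, LinearMap.lTensor_tmul, LinearMap.lTensor_tmul,
      Algebra.algebraMap_self, RingHom.id_apply, hone, TensorProduct.tmul_zero] at h2
    have h3 := congrArg (TensorProduct.rid k L) h2
    rw [map_zero, TensorProduct.rid_tmul, eq_comm, smul_eq_zero] at h3
    exact h3.elim hψ one_ne_zero
  · by_cases hI : I = ⊤
    · exact Or.inr hI
    left
    let π : A →ₐ[k] I.ringCon.Quotient :=
      { I.ringCon.mk' with commutes' := fun r => rfl }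
    haveI : Nontrivial I.ringCon.Quotient := by
      refine ⟨π 1, π 0, fun h => hI (I.one_mem_iff.1 ?_)⟩
      exact (TwoSidedIdeal.mem_iff I 1).2 ((RingCon.eq _).1 h)
    haveI : Nontrivial (L ⊗[k] I.ringCon.Quotient) :=
      (Algebra.TensorProduct.includeRight_injective (A := L) (B := I.ringCon.Quotient)
        (algebraMap k L).injective).nontrivial
    have hq := injective_algHom L (Algebra.TensorProduct.map (AlgHom.id L L) π)
    rw [eq_bot_iff]
    intro x hx
    have hx0 : π x = 0 := (RingCon.eq _).2 ((TwoSidedIdeal.mem_iff I x).1 hx)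
    have : (1 : L) ⊗ₜ[k] x = 0 := hq (by
      rw [Algebra.TensorProduct.map_tmul, map_zero, hx0, TensorProduct.tmul_zero])
    exact (hinj (by simpa using this) : x = 0)

end Groth.Agent.CSAStruct
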