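import Groth.Agent.CSAStruct.Splitting

/-! Splitting fields and Brauer equivalence. -/

universe u v w

open TensorProduct MulOpposite

namespace Groth.Agent.CSAStruct

variable (k : Type u) [Field k]

theorem splits_of_matrix (A : Type v) [Ring A] [Algebra k A] [Algebra.IsCentral k A] [IsSimpleRing A]
    [FiniteDimensional k A] (L : Type w) [Field L] [Algebra k L] (m : ℕ) (hm : m ≠ 0)
    (h : Curves.Splits k (Matrix (Fin m) (Fin m) A) L) : Curves.Splits k A L := by
  haveI : NeZero m := ⟨hm⟩
  haveI := isSimpleRing_baseChange k A L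
  haveI := isSimpleRing_baseChange k (Matrix (Fin m) (Fin m) A) L
  haveI : IsArtinianRing (L ⊗[k] A) := IsArtinianRing.of_finite L _
  obtain ⟨s, hs, D, _, _, _, ⟨E⟩⟩ :=
    IsSimpleRing.exists_algEquiv_matrix_divisionRing_finite L (L ⊗[k] A)
  haveI := hs
  obtain ⟨N, hN, ⟨F⟩⟩ := h
  let f : L ⊗[k] Matrix (Fin m) (Fin m) A →ₐ[L] Matrix (Fin m) (Fin m) (L ⊗[k] A) :=
    Algebra.TensorProduct.lift (Algebra.ofId L _)
      (Algebra.TensorProduct.includeRight : A →ₐ[k] L ⊗[k] A).mapMatrix
      (fun l a => Algebra.commutes l _)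
  have hf := bijective_of_finrank_eq f (by
    simp only [Module.finrank_baseChange, Module.finrank_matrix, Fintype.card_fin])
  obtain ⟨-, ⟨hD⟩⟩ := matrix_unique L D L (m * s) N (Nat.mul_ne_zero hm hs.out) hN
    ((((AlgEquiv.ofBijective f hf).trans E.mapMatrix).trans
      ((Matrix.compAlgEquiv (Fin m) (Fin s) D L).trans
        (Matrix.reindexAlgEquiv L D finProdFinEquiv))).symm.trans F)
  exact ⟨s, hs.out, ⟨E.trans hD.mapMatrix⟩⟩

theorem central_centralizer_and_tensor_equiv (R : Type v) [Ring R] [Algebra k R] [Algebra.IsCentral k R]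
    [IsSimpleRing R] [FiniteDimensional k R] (E : Type w) [Ring E] [Algebra k E] [Algebra.IsCentral k E]
    [IsSimpleRing E] [FiniteDimensional k E] (α : R →ₐ[k] E) :
    let C := Subalgebra.centralizer k (α.range : Set E)
    IsSimpleRing C ∧ Algebra.IsCentral k C ∧
      Module.finrank k E = Module.finrank k R * Module.finrank k C ∧ Nonempty (R ⊗[k] C ≃ₐ[k] E) := by
  intro C
  have hα : Function.Injective α := injective_algHom k α
  haveI : IsSimpleRing α.range :=
    IsSimpleRing.of_ringEquiv (AlgEquiv.ofInjective α hα).toRingEquiv inferInstance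
  haveI hC : IsSimpleRing C := isSimpleRing_centralizer k α.range
  have hdim : Module.finrank k E = Module.finrank k R * Module.finrank k C := by
    rw [(AlgEquiv.ofInjective α hα).toLinearEquiv.finrank_eq]
    exact finrank_eq_mul_finrank_centralizer k α.range
  refine ⟨hC, ⟨fun z hz => ?_⟩, hdim, ?_⟩
  · rw [Subalgebra.mem_center_iff] at hz
    have hz' : (z : E) ∈ α.range := by
      rw [← centralizer_centralizer k α.range, Subalgebra.mem_centralizer_iff]
      exact fun y hy => congrArg Subtype.val (hz ⟨y, hy⟩)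
    obtain ⟨a, ha⟩ := hz'
    have hac : a ∈ Subalgebra.center k R := by
      rw [Subalgebra.mem_center_iff]
      intro c
      apply hα
      rw [map_mul, map_mul]
      change α c * α.toRingHom a = α.toRingHom a * α c
      rw [ha]
      exact (Subalgebra.mem_centralizer_iff k).1 z.2 (α c) ⟨c, rfl⟩
    obtain ⟨r, hr⟩ := Algebra.mem_bot.1 (Algebra.IsCentral.out hac)
    refine Algebra.mem_bot.2 ⟨r, Subtype.ext ?_⟩
    rw [Subalgebra.coe_algebraMap, ← α.commutes r, hr]
    exact ha
  · haveI : IsSimpleRing (R ⊗[k] C) := CSALib.isSimpleRing_tensorProduct k R C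
    exact ⟨AlgEquiv.ofBijective (Algebra.TensorProduct.lift α C.val
      (fun x y => (Subalgebra.mem_centralizer_iff k).1 y.2 (α x) ⟨x, rfl⟩))
      (bijective_of_finrank_eq _ (by rw [Module.finrank_tensorProduct, hdim]))⟩

theorem nonempty_matrix_equiv_of_tensor_op (A : Type v) [Ring A] [Algebra k A] [Algebra.IsCentral k A]
    [IsSimpleRing A] [FiniteDimensional k A] (S : Type w) [Ring S] [Algebra k S] (N : ℕ)
    (θ : Aᵐᵒᵖ ⊗[k] S ≃ₐ[k] Matrix (Fin N) (Fin N) k) :
    Nonempty (Matrix (Fin N) (Fin N) A ≃ₐ[k]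
      Matrix (Fin (Module.finrank k A)) (Fin (Module.finrank k A)) S) := by
  let μ := AlgEquiv.ofBijective _ (CSALib.mulLeftRight_bijective k A)
  exact ⟨(matrixEquivTensor (Fin N) k A).trans <|
    (Algebra.TensorProduct.congr AlgEquiv.refl θ.symm).trans <|
    (Algebra.TensorProduct.assoc k k k A Aᵐᵒᵖ S).symm.trans <|
    (Algebra.TensorProduct.congr (μ.trans (algEquivMatrix (Module.finBasis k A))) AlgEquiv.refl).trans <|
    (Algebra.TensorProduct.comm k _ S).trans (matrixEquivTensor (Fin _) k S).symm⟩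

theorem splits_iff_brauer (A : CSA.{u, u} k) (k' : Type u) [Field k'] [Algebra k k']
    [FiniteDimensional k k'] :
    Curves.Splits k A k' ↔ ∃ (B : CSA.{u, u} k) (_ : k' →ₐ[k] B), IsBrauerEquivalent A B ∧
      Module.finrank k B = Module.finrank k k' ^ 2 := by
  constructor
  · intro h
    obtain ⟨n, hn, hdim, ⟨g⟩⟩ := (splits_iff_exists_hom k A k').1 h
    haveI : NeZero n := ⟨hn⟩
    haveI : Nontrivial (Fin n → k') := Function.nontrivial
    haveI := isCentral_mulOpposite k A
    let α : (A : Type u)ᵐᵒᵖ →ₐ[k] Module.End k (Fin n → k') :=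
      (Algebra.lsmul k k (Fin n → k')).comp (AlgHom.op g)
    let b := Module.finBasis k (Fin n → k')
    haveI : Nontrivial (Fin (Module.finrank k (Fin n → k')) → k) := b.equivFun.symm.toEquiv.nontrivial
    haveI : NeZero (Module.finrank k (Fin n → k')) := ⟨Module.finrank_pos.ne'⟩
    haveI : IsSimpleRing (Module.End k (Fin n → k')) :=
      IsSimpleRing.of_ringEquiv (algEquivMatrix b).symm.toRingEquiv inferInstance
    obtain ⟨hS1, hS2, hdimE, ⟨eS⟩⟩ :=
      central_centralizer_and_tensor_equiv k (A : Type u)ᵐᵒᵖ (Module.End k (Fin n → k')) α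
    let S := Subalgebra.centralizer k (α.range : Set (Module.End k (Fin n → k')))
    haveI : IsSimpleRing S := hS1
    haveI : Algebra.IsCentral k S := hS2
    have hmem : ∀ l : k', Algebra.lsmul k k (Fin n → k') l ∈ S := fun l => by
      rw [Subalgebra.mem_centralizer_iff]
      rintro _ ⟨a, rfl⟩
      apply LinearMap.ext
      intro v
      exact smul_comm (AlgHom.op g a) l v
    let φ : k' →ₐ[k] S := (Algebra.lsmul k k (Fin n → k')).codRestrict S hmem
    have hdimS : Module.finrank k S = Module.finrank k k' ^ 2 := by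
      rw [← (MulOpposite.opLinearEquiv k (M := (A : Type u))).finrank_eq, Module.finrank_linearMap,
        Module.finrank_pi_fintype, Finset.sum_const, Finset.card_fin, smul_eq_mul, hdim] at hdimE
      have h2 : (n * n) * Module.finrank k k' ^ 2 = (n * n) * Module.finrank k S := by
        rw [← hdimE]; ring
      exact (Nat.eq_of_mul_eq_mul_left (Nat.mul_pos (Nat.pos_of_ne_zero hn) (Nat.pos_of_ne_zero hn)) h2).symm
    exact ⟨⟨AlgCat.of k S⟩, φ, ⟨Module.finrank k (Fin n → k'), Module.finrank k A, Module.finrank_pos.ne',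
      Module.finrank_pos.ne', nonempty_matrix_equiv_of_tensor_op k A S _ (eS.trans (algEquivMatrix b))⟩, hdimS⟩
  · rintro ⟨B, φ, ⟨n, m, hn, hm, ⟨e⟩⟩, hdim⟩
    haveI : NeZero n := ⟨hn⟩
    haveI : NeZero m := ⟨hm⟩
    rw [pow_two] at hdim
    exact splits_of_matrix k A k' n hn (splits_of_algEquiv k _ k' e.symm
      (splits_matrix k B k' m hm (splits_of_algHom_sq k B k' φ hdim)))

end Groth.Agent.CSAStruct
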