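import Groth.Agent.CSAStruct.Modules
import Mathlib.Algebra.Central.Basic
import Mathlib.Algebra.Algebra.Subalgebra.Centralizer
import Mathlib.RingTheory.TensorProduct.Maps

/-! Skolem–Noether and the centralizer theorems. -/

universe u v w

open TensorProduct MulOpposite

namespace Groth.Agent.CSAStruct

variable (k : Type u) [Field k]

theorem isCentral_mulOpposite (A : Type v) [Ring A] [Algebra k A] [Algebra.IsCentral k A] :
    Algebra.IsCentral k Aᵐᵒᵖ := by
  constructor
  intro x hx
  rw [Subalgebra.mem_center_iff] at hx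
  have hc : x.unop ∈ Subalgebra.center k A :=
    Subalgebra.mem_center_iff.2 fun a => (congrArg unop (hx (op a))).symm
  obtain ⟨c, hc⟩ := Algebra.mem_bot.1 (Algebra.IsCentral.out hc)
  exact Algebra.mem_bot.2 ⟨c, unop_injective (by simpa using hc)⟩

theorem injective_algHom {B : Type w} [Ring B] [Algebra k B] [IsSimpleRing B] {C : Type v}
    [Ring C] [Algebra k C] [Nontrivial C] (f : B →ₐ[k] C) : Function.Injective f :=
  (IsSimpleRing.injective_ringHom_or_subsingleton_codomain (f : B →+* C)).resolve_right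
    fun h => not_subsingleton C h

variable {A : Type v} [Ring A] [Algebra k A]

/-- `b ⊗ op a` acts on `A` by `x ↦ f b * x * a`. -/
noncomputable def sandwichHom {B : Type w} [Ring B] [Algebra k B] (f : B →ₐ[k] A) :
    B ⊗[k] Aᵐᵒᵖ →ₐ[k] Module.End k A :=
  (AlgHom.mulLeftRight k A).comp (Algebra.TensorProduct.map f (AlgHom.id k Aᵐᵒᵖ))

theorem sandwichHom_tmul {B : Type w} [Ring B] [Algebra k B] (f : B →ₐ[k] A) (b : B) (a : Aᵐᵒᵖ)
    (x : A) : sandwichHom k f (b ⊗ₜ a) x = f b * x * a.unop := by
  simp [sandwichHom]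

variable [Algebra.IsCentral k A] [IsSimpleRing A] [FiniteDimensional k A]

omit [FiniteDimensional k A] in
theorem isSimpleRing_tensor_op (B : Type w) [Ring B] [Algebra k B] [IsSimpleRing B] :
    IsSimpleRing (B ⊗[k] Aᵐᵒᵖ) := by
  haveI := isCentral_mulOpposite k A
  exact IsSimpleRing.of_ringEquiv (Algebra.TensorProduct.comm k Aᵐᵒᵖ B).toRingEquiv
    (CSALib.isSimpleRing_tensorProduct k Aᵐᵒᵖ B)

/-- Skolem–Noether. -/
theorem skolemNoether {B : Type w} [Ring B] [Algebra k B] [IsSimpleRing B] (f g : B →ₐ[k] A) :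
    ∃ x : Aˣ, ∀ b : B, f b = (x : A) * g b * (x⁻¹ : Aˣ) := by
  haveI := isSimpleRing_tensor_op k (A := A) B
  haveI : FiniteDimensional k B := Module.Finite.of_injective f.toLinearMap (injective_algHom k f)
  obtain ⟨θ, hθ⟩ := exists_intertwiner k (B ⊗[k] Aᵐᵒᵖ) (sandwichHom k g) (sandwichHom k f) rfl
  have h1 : ∀ a : A, θ a = θ 1 * a := fun a => by
    simpa [sandwichHom_tmul] using hθ (1 ⊗ₜ op a) 1
  have h2 : ∀ b : B, θ (g b) = f b * θ 1 := fun b => by
    simpa [sandwichHom_tmul] using hθ (b ⊗ₜ 1) 1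
  obtain ⟨a, ha⟩ := θ.surjective 1
  have hua : θ 1 * a = 1 := by rw [← h1]; exact ha
  have hau : a * θ 1 = 1 := by
    apply θ.injective
    rw [h1 (a * θ 1), ← mul_assoc, hua, one_mul]
  refine ⟨⟨θ 1, a, hua, hau⟩, fun b => ?_⟩
  have := h2 b
  rw [h1] at this
  change f b = θ 1 * g b * a
  rw [this, mul_assoc, hua, mul_one]

variable (B : Subalgebra k A) [IsSimpleRing B]

omit [Algebra.IsCentral k A] [IsSimpleRing A] [FiniteDimensional k A] [IsSimpleRing B] in
theorem sandwichHom_mul_left (c : A) (hc : c ∈ Subalgebra.centralizer k (B : Set A))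
    (t : ↥B ⊗[k] Aᵐᵒᵖ) (x : A) :
    c * sandwichHom k B.val t x = sandwichHom k B.val t (c * x) := by
  induction t with
  | zero => simp
  | tmul b a =>
    rw [sandwichHom_tmul, sandwichHom_tmul, Subalgebra.coe_val]
    rw [← mul_assoc, ← mul_assoc, ← mul_assoc,
      ← (Subalgebra.mem_centralizer_iff k).1 hc (b : A) b.2]
  | add t s ht hs => simp only [map_add, LinearMap.add_apply, mul_add, ht, hs]

/-- left multiplication by elements of the centralizer -/
noncomputable def centralizerHom :
    Subalgebra.centralizer k (B : Set A) →ₐ[k]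
      Module.End (↥B ⊗[k] Aᵐᵒᵖ) (RepSpace k (↥B ⊗[k] Aᵐᵒᵖ) (sandwichHom k B.val)) where
  toFun c :=
    { toFun := fun x => @HMul.hMul A A A _ (c : A) x
      map_add' := fun x y => mul_add (R := A) _ x y
      map_smul' := fun t x => sandwichHom_mul_left k B c c.2 t x }
  map_one' := LinearMap.ext fun x => one_mul (M := A) _
  map_mul' c d := LinearMap.ext fun x => mul_assoc (G := A) _ _ _
  map_zero' := LinearMap.ext fun x => zero_mul (M₀ := A) _
  map_add' c d := LinearMap.ext fun x => add_mul (R := A) _ _ _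
  commutes' r := LinearMap.ext fun x => (Algebra.smul_def (A := A) r _).symm

theorem centralizerHom_bijective : Function.Bijective (centralizerHom k B) := by
  constructor
  · intro c d hcd
    apply Subtype.ext
    have : (c : A) * 1 = (d : A) * 1 := LinearMap.congr_fun hcd (1 : A)
    simpa using this
  · intro φ
    let φ' : A → A := fun x => φ x
    have key : ∀ (t : ↥B ⊗[k] Aᵐᵒᵖ) (x : A),
        φ' (sandwichHom k B.val t x) = sandwichHom k B.val t (φ' x) := fun t x => φ.map_smul t x
    have hr : ∀ a, φ' a = φ' 1 * a := fun a => by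
      simpa [sandwichHom_tmul] using key (1 ⊗ₜ op a) 1
    refine ⟨⟨φ' 1, (Subalgebra.mem_centralizer_iff k).2 fun b hb => ?_⟩, LinearMap.ext fun x => (hr x).symm⟩
    have h := key ((⟨b, hb⟩ : B) ⊗ₜ 1) 1
    rw [sandwichHom_tmul, sandwichHom_tmul] at h
    simp only [Subalgebra.coe_val, unop_one, mul_one] at h
    rw [← h, hr b]

theorem finrank_eq_mul_finrank_centralizer :
    Module.finrank k A = Module.finrank k B * Module.finrank k (Subalgebra.centralizer k (B : Set A)) := by
  haveI := isSimpleRing_tensor_op k (A := A) B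
  have h := finrank_end_mul_finrank k (↥B ⊗[k] Aᵐᵒᵖ) (RepSpace k (↥B ⊗[k] Aᵐᵒᵖ) (sandwichHom k B.val))
  rw [← (AlgEquiv.ofBijective _ (centralizerHom_bijective k B)).toLinearEquiv.finrank_eq,
    Module.finrank_tensorProduct, ← (MulOpposite.opLinearEquiv k (M := A)).finrank_eq] at h
  change _ = Module.finrank k A ^ 2 at h
  have hpos : 0 < Module.finrank k A := Module.finrank_pos
  apply Nat.eq_of_mul_eq_mul_right hpos
  rw [← pow_two, ← h]
  ring

theorem isSimpleRing_centralizer : IsSimpleRing (Subalgebra.centralizer k (B : Set A)) := by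
  haveI := isSimpleRing_tensor_op k (A := A) B
  haveI : Nontrivial (RepSpace k (↥B ⊗[k] Aᵐᵒᵖ) (sandwichHom k B.val)) := inferInstanceAs (Nontrivial A)
  exact IsSimpleRing.of_ringEquiv
    (AlgEquiv.ofBijective _ (centralizerHom_bijective k B)).symm.toRingEquiv
    (isSimpleRing_end k (↥B ⊗[k] Aᵐᵒᵖ) (RepSpace k (↥B ⊗[k] Aᵐᵒᵖ) (sandwichHom k B.val)))

theorem centralizer_centralizer :
    Subalgebra.centralizer k (Subalgebra.centralizer k (B : Set A) : Set A) = B := by
  haveI := isSimpleRing_centralizer k B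
  symm
  apply Subalgebra.eq_of_le_of_finrank_eq
  · intro b hb
    exact (Subalgebra.mem_centralizer_iff k).2 fun c hc =>
      ((Subalgebra.mem_centralizer_iff k).1 hc b hb).symm
  · have h1 := finrank_eq_mul_finrank_centralizer k B
    have h2 := finrank_eq_mul_finrank_centralizer k (Subalgebra.centralizer k (B : Set A))
    have hpos : 0 < Module.finrank k (Subalgebra.centralizer k (B : Set A)) := Module.finrank_pos
    apply Nat.eq_of_mul_eq_mul_left hpos
    rw [← h2, h1, mul_comm]

end Groth.Agent.CSAStruct
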