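import Groth.Agent.CSAStruct.Centralizer
import Mathlib.Algebra.Central.Matrix
import Mathlib.LinearAlgebra.Matrix.Action
import Mathlib.FieldTheory.JacobsonNoether
import Mathlib.FieldTheory.SeparableClosure

/-! Uniqueness of the division algebra in `M_n(D)`; maximal separable subfields. -/

universe u v w

open TensorProduct

namespace Groth.Agent.CSAStruct

variable (k : Type u) [Field k]

theorem isSimpleModule_of_transitive (R : Type v) [Ring R] (M : Type w) [AddCommGroup M]
    [Module R M] [Nontrivial M] (h : ∀ v : M, v ≠ 0 → ∀ w : M, ∃ r : R, r • v = w) :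
    IsSimpleModule R M :=
  isSimpleModule_iff_toSpanSingleton_surjective.2 ⟨inferInstance, fun v hv w => h v hv w⟩

theorem matrix_transitive {D : Type v} [DivisionRing D] {n : ℕ} (v : Fin n → D) (hv : v ≠ 0)
    (w : Fin n → D) : ∃ M : Matrix (Fin n) (Fin n) D, M.mulVec v = w := by
  classical
  obtain ⟨i, hi⟩ : ∃ i, v i ≠ 0 := by
    by_contra h; push Not at h; exact hv (funext h)
  refine ⟨Matrix.of fun r c => if c = i then w r * (v i)⁻¹ else 0, funext fun r => ?_⟩
  simp [Matrix.mulVec, dotProduct, hi]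

theorem finrank_dvd_of_matrix (D : Type v) [DivisionRing D] [Algebra k D] [FiniteDimensional k D]
    (n : ℕ) [NeZero n] (V : Type w) [AddCommGroup V] [Module k V] [FiniteDimensional k V]
    (ρ : Matrix (Fin n) (Fin n) D →ₐ[k] Module.End k V) :
    n * Module.finrank k D ∣ Module.finrank k V := by
  haveI : IsSimpleModule (Matrix (Fin n) (Fin n) D) (Fin n → D) :=
    isSimpleModule_of_transitive _ _ fun v hv w => by
      obtain ⟨M, hM⟩ := matrix_transitive v hv w
      exact ⟨M, hM⟩
  obtain ⟨a, -, ha⟩ := exists_finrank_eq_mul k (Matrix (Fin n) (Fin n) D)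
    (RepSpace k (Matrix (Fin n) (Fin n) D) ρ) (Fin n → D)
  refine Dvd.intro_left a ?_
  have h1 : Module.finrank k (Fin n → D) = n * Module.finrank k D := by
    rw [Module.finrank_pi_fintype, Finset.sum_const, Finset.card_fin, smul_eq_mul]
  rw [h1] at ha
  exact ha.symm

/-- If `M_n(D) ≅ M_m(D')` with `D'` central then `n = m` and `D ≅ D'`. -/
theorem matrix_unique (D : Type v) [DivisionRing D] [Algebra k D] [FiniteDimensional k D]
    (D' : Type w) [DivisionRing D'] [Algebra k D'] [Algebra.IsCentral k D'] [FiniteDimensional k D']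
    (n m : ℕ) (hn : n ≠ 0) (hm : m ≠ 0)
    (e : Matrix (Fin n) (Fin n) D ≃ₐ[k] Matrix (Fin m) (Fin m) D') :
    n = m ∧ Nonempty (D ≃ₐ[k] D') := by
  haveI : NeZero n := ⟨hn⟩
  haveI : NeZero m := ⟨hm⟩
  have hpos : 0 < Module.finrank k D := Module.finrank_pos
  have hpos' : 0 < Module.finrank k D' := Module.finrank_pos
  have h1 := finrank_dvd_of_matrix k D n (Fin m → D')
    ((Algebra.lsmul k k (Fin m → D')).comp e.toAlgHom)
  have h2 := finrank_dvd_of_matrix k D' m (Fin n → D)
    ((Algebra.lsmul k k (Fin n → D)).comp e.symm.toAlgHom)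
  simp only [Module.finrank_pi_fintype, Finset.sum_const, Finset.card_fin, smul_eq_mul] at h1 h2
  have heq := Nat.dvd_antisymm h1 h2
  have hd := e.toLinearEquiv.finrank_eq
  simp only [Module.finrank_matrix, Fintype.card_fin] at hd
  rw [mul_assoc n n, heq, mul_assoc m m] at hd
  obtain rfl : n = m := Nat.eq_of_mul_eq_mul_right (by positivity) hd
  refine ⟨rfl, ?_⟩
  obtain ⟨x, hx⟩ := skolemNoether k ((Algebra.ofId k D').mapMatrix (m := Fin n))
    ((e : Matrix (Fin n) (Fin n) D →ₐ[k] _).comp (Algebra.ofId k D).mapMatrix)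
  let ψ : Matrix (Fin n) (Fin n) D → Matrix (Fin n) (Fin n) D' := fun M => x * e M * (x⁻¹ : _ˣ)
  have ψmul : ∀ M N, ψ (M * N) = ψ M * ψ N := fun M N => by
    simp only [ψ, map_mul, mul_assoc, Units.inv_mul_cancel_left]
  have ψinj : Function.Injective ψ := fun M N h => by
    simp only [ψ, Units.mul_left_inj, Units.mul_right_inj] at h
    exact e.injective h
  have hψ1 : ∀ i j : Fin n, ψ (Matrix.single i j 1) = Matrix.single i j 1 := by
    intro i j
    have h := hx (Matrix.single i j 1)
    simp only [AlgHom.comp_apply, AlgHom.mapMatrix_apply, AlgHom.coe_coe] at h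
    simp only [Matrix.map_single, map_one] at h
    exact h.symm
  have hscal : ∀ d : D, ∃ d' : D', Matrix.scalar (Fin n) d' = ψ (Matrix.scalar (Fin n) d) := by
    intro d
    obtain ⟨d', hd'⟩ := Matrix.mem_range_scalar_of_commute_single (M := ψ (Matrix.scalar (Fin n) d))
      (fun i j _ => by
        change Matrix.single i j 1 * _ = _ * Matrix.single i j 1
        rw [← hψ1 i j, ← ψmul, ← ψmul]
        congr 1
        ext a b
        simp [Matrix.single_apply])
    exact ⟨d', hd'⟩
  choose f hf using hscal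
  have hfinj : ∀ a b : D', Matrix.scalar (Fin n) a = Matrix.scalar (Fin n) b → a = b := fun a b h =>
    Matrix.scalar_inj.1 h
  let F : D →ₐ[k] D' :=
    { toFun := f
      map_one' := hfinj _ _ (by rw [hf, map_one, map_one]; simp [ψ])
      map_mul' := fun a b => hfinj _ _ (by rw [hf, map_mul, map_mul, hf, hf]; exact ψmul _ _)
      map_zero' := hfinj _ _ (by rw [hf, map_zero, map_zero]; simp [ψ])
      map_add' := fun a b => hfinj _ _ (by
        rw [hf, map_add, map_add, hf, hf]
        simp only [ψ, map_add, mul_add, add_mul])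
      commutes' := fun r => hfinj _ _ (by
        rw [hf]
        have h1 : Matrix.scalar (Fin n) (algebraMap k D r) = algebraMap k (Matrix (Fin n) (Fin n) D) r := rfl
        have h2 : Matrix.scalar (Fin n) (algebraMap k D' r) = algebraMap k (Matrix (Fin n) (Fin n) D') r := rfl
        rw [h1, h2]
        simp only [ψ, AlgEquiv.commutes]
        rw [← Algebra.commutes r (x : Matrix (Fin n) (Fin n) D'), mul_assoc, Units.mul_inv, mul_one]) }
  have hdim : Module.finrank k D = Module.finrank k D' := Nat.eq_of_mul_eq_mul_left (Nat.pos_of_ne_zero hn) heq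
  have hinj : Function.Injective F := fun a b h => by
    have := congrArg (Matrix.scalar (Fin n)) (show f a = f b from h)
    rw [hf, hf] at this
    exact Matrix.scalar_inj.1 (ψinj this)
  exact ⟨AlgEquiv.ofBijective F ⟨hinj,
    (LinearMap.injective_iff_surjective_of_finrank_eq_finrank hdim (f := F.toLinearMap)).1 hinj⟩⟩

theorem isSimpleRing_of_isDomain (R : Type v) [Ring R] [IsDomain R] [Algebra k R]
    [FiniteDimensional k R] : IsSimpleRing R := by
  letI := divisionRingOfFiniteDimensional k R
  infer_instance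

variable (D : Type v) [DivisionRing D] [Algebra k D]

theorem centralizer_eq_of_maximal (L : Subalgebra k D) (hcomm : ∀ x ∈ L, ∀ y ∈ L, x * y = y * x)
    (hmax : ∀ L' : Subalgebra k D, (∀ x ∈ L', ∀ y ∈ L', x * y = y * x) → L ≤ L' → L' = L) :
    Subalgebra.centralizer k (L : Set D) = L := by
  refine le_antisymm (fun z hz => ?_) (fun z hz => (Subalgebra.mem_centralizer_iff k).2 fun g hg => hcomm g hg z hz)
  rw [Subalgebra.mem_centralizer_iff] at hz
  have hgen : ∀ a ∈ insert z (L : Set D), ∀ b ∈ insert z (L : Set D), a * b = b * a := by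
    rintro a (rfl | ha) b (rfl | hb)
    · rfl
    · exact (hz b hb).symm
    · exact hz a ha
    · exact hcomm a ha b hb
  have h := hmax (Algebra.adjoin k (insert z (L : Set D)))
    (fun a ha b hb => by
      letI := Algebra.adjoinCommRingOfComm k hgen
      exact congrArg Subtype.val (mul_comm (⟨a, ha⟩ : Algebra.adjoin k (insert z (L : Set D))) ⟨b, hb⟩))
    (fun a ha => Algebra.subset_adjoin (Set.mem_insert_of_mem _ ha))
  exact h ▸ Algebra.subset_adjoin (Set.mem_insert z _)

variable [Algebra.IsCentral k D] [FiniteDimensional k D]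

theorem isSeparable_of_adjoin_insert (L : Type v) [Field L] [Algebra k L] [Algebra.IsSeparable k L]
    {L' : Type w} [Field L'] [Algebra k L'] [Algebra L L'] [IsScalarTower k L L'] (x : L')
    (hx : IsSeparable L x) (hgen : Algebra.adjoin k (insert x (Set.range (algebraMap L L'))) = ⊤) :
    Algebra.IsSeparable k L' := by
  refine ⟨fun y => mem_separableClosure_iff.1 ?_⟩
  have hle : Algebra.adjoin k (insert x (Set.range (algebraMap L L'))) ≤ (separableClosure k L').toSubalgebra := by
    refine Algebra.adjoin_le ?_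
    rintro a (rfl | ⟨l, rfl⟩)
    · exact mem_separableClosure_iff.2 (IsSeparable.of_algebra_isSeparable_of_isSeparable k hx)
    · exact mem_separableClosure_iff.2 (IsSeparable.of_algebra_isSeparable_of_isSeparable k
        (isSeparable_algebraMap (K := L') l))
  exact hle (hgen.symm ▸ Algebra.mem_top)

/-- There is a commutative separable subalgebra equal to its centralizer. -/
theorem exists_separable_selfCentralizing :
    ∃ L : Subalgebra k D, (∀ x ∈ L, ∀ y ∈ L, x * y = y * x) ∧ Algebra.IsSeparable k L ∧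
      Subalgebra.centralizer k (L : Set D) = L := by
  classical
  let P : Subalgebra k D → Prop := fun L => (∀ x ∈ L, ∀ y ∈ L, x * y = y * x) ∧ Algebra.IsSeparable k L
  have hbot : P ⊥ := by
    refine ⟨fun x hx y _ => ?_, ⟨fun y => ?_⟩⟩
    · obtain ⟨c, rfl⟩ := Algebra.mem_bot.1 hx
      exact Algebra.commutes c y
    · obtain ⟨c, hc⟩ := Algebra.mem_bot.1 y.2
      rw [show y = algebraMap k (⊥ : Subalgebra k D) c from Subtype.ext hc.symm]
      exact isSeparable_algebraMap (K := (⊥ : Subalgebra k D)) c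
  have hex : ∃ d, ∀ L, P L → Module.finrank k L ≤ d :=
    ⟨Module.finrank k D, fun L _ => Submodule.finrank_le L.toSubmodule⟩
  obtain ⟨L, ⟨hcomm, hsep⟩, hLmax⟩ : ∃ L, P L ∧ ∀ L', P L' → L ≤ L' → L' = L := by
    obtain ⟨L, hL, hLd⟩ : ∃ L, P L ∧ ∀ L', P L' → Module.finrank k L' ≤ Module.finrank k L := by
      let Q : ℕ → Prop := fun d => ∃ L, P L ∧ Module.finrank k L = d
      obtain ⟨d, hd⟩ := hex
      have hQ : Q (Nat.findGreatest Q d) := Nat.findGreatest_spec (hd ⊥ hbot) ⟨⊥, hbot, rfl⟩
      obtain ⟨L, hL, hLd⟩ := hQ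
      exact ⟨L, hL, fun L' hL' => hLd ▸ Nat.le_findGreatest (hd L' hL') ⟨L', hL', rfl⟩⟩
    exact ⟨L, hL, fun L' hL' hle => (Subalgebra.eq_of_le_of_finrank_le hle (hLd L' hL')).symm⟩
  refine ⟨L, hcomm, hsep, ?_⟩
  haveI : IsSimpleRing L := isSimpleRing_of_isDomain k L
  set C := Subalgebra.centralizer k (L : Set D) with hCdef
  have hLC : L ≤ C := fun z hz => (Subalgebra.mem_centralizer_iff k).2 fun g hg => hcomm g hg z hz
  by_contra hne
  letI : CommRing L := { (inferInstance : Ring L) with mul_comm := fun a b => Subtype.ext (hcomm a a.2 b b.2) }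
  letI : Field L := fieldOfFiniteDimensional k L
  letI : DivisionRing C := divisionRingOfFiniteDimensional k C
  let ι : L →+* C := (Subalgebra.inclusion hLC).toRingHom
  letI : Algebra L C := ι.toAlgebra' fun c x => Subtype.ext ((Subalgebra.mem_centralizer_iff k).1 x.2 c c.2)
  haveI : IsScalarTower k L C := IsScalarTower.of_algebraMap_eq fun r => rfl
  haveI : FiniteDimensional L C := FiniteDimensional.right k L C
  haveI : Algebra.IsCentral L C := ⟨fun z hz => by
    rw [Subalgebra.mem_center_iff] at hz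
    have hzL : (z : D) ∈ L := by
      rw [← centralizer_centralizer k L, Subalgebra.mem_centralizer_iff]
      exact fun g hg => congrArg Subtype.val (hz ⟨g, hg⟩)
    exact Algebra.mem_bot.2 ⟨⟨z, hzL⟩, Subtype.ext rfl⟩⟩
  have hbt : (⊥ : Subalgebra L C) ≠ ⊤ := fun h => hne (le_antisymm (fun z hz => by
    obtain ⟨l, hl⟩ := Algebra.mem_bot.1 (h.symm ▸ (Algebra.mem_top : (⟨z, hz⟩ : C) ∈ (⊤ : Subalgebra L C)))
    have : (l : D) = z := congrArg Subtype.val hl
    rw [← this]; exact l.2) hLC)
  obtain ⟨x, hxn, hxs⟩ := JacobsonNoether.exists_separable_and_not_isCentral' hbt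
  have hxL : (x : D) ∉ L := fun h => hxn (Algebra.mem_bot.2 ⟨⟨x, h⟩, Subtype.ext rfl⟩)
  have hgen : ∀ a ∈ insert (x : D) (L : Set D), ∀ b ∈ insert (x : D) (L : Set D), a * b = b * a := by
    rintro a (rfl | ha) b (rfl | hb)
    · rfl
    · exact ((Subalgebra.mem_centralizer_iff k).1 x.2 b hb).symm
    · exact (Subalgebra.mem_centralizer_iff k).1 x.2 a ha
    · exact hcomm a ha b hb
  set L' := Algebra.adjoin k (insert (x : D) (L : Set D)) with hL'def
  letI : CommRing L' := Algebra.adjoinCommRingOfComm k hgen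
  letI : Field L' := fieldOfFiniteDimensional k L'
  have hLL' : L ≤ L' := fun a ha => Algebra.subset_adjoin (Set.mem_insert_of_mem _ ha)
  letI : Algebra L L' := (Subalgebra.inclusion hLL').toRingHom.toAlgebra
  haveI : IsScalarTower k L L' := IsScalarTower.of_algebraMap_eq fun r => rfl
  have hxL' : (x : D) ∈ L' := Algebra.subset_adjoin (Set.mem_insert _ _)
  let x' : L' := ⟨x, hxL'⟩
  have hx' : IsSeparable L x' := by
    have h0 : Polynomial.aeval x' (minpoly L x) = 0 := by
      apply Subtype.ext
      have h := congrArg (C.val : C →+* D) (minpoly.aeval L x)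
      rw [map_zero, Polynomial.aeval_def, Polynomial.hom_eval₂] at h
      change (L'.val : L' →+* D) (Polynomial.aeval x' (minpoly L x)) = 0
      rw [Polynomial.aeval_def, Polynomial.hom_eval₂]
      exact h
    exact Polynomial.Separable.of_dvd hxs (minpoly.dvd L x' h0)
  have hsep' : Algebra.IsSeparable k L' := by
    refine isSeparable_of_adjoin_insert k L x' hx' (top_le_iff.1 ?_)
    rw [← Algebra.adjoin_adjoin_coe_preimage (R := k) (s := insert (x : D) (L : Set D))]
    refine Algebra.adjoin_mono ?_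
    rintro ⟨a, ha'⟩ (ha | ha)
    · exact Or.inl (Subtype.ext ha)
    · exact Or.inr ⟨⟨a, ha⟩, rfl⟩
  have := hLmax L' ⟨fun a ha b hb => congrArg Subtype.val (mul_comm (⟨a, ha⟩ : L') ⟨b, hb⟩), hsep'⟩ hLL'
  exact hxL (this ▸ hxL')

end Groth.Agent.CSAStruct
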