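import Groth.Agent.CSALib.Basic
import Mathlib.RingTheory.SimpleModule.WedderburnArtin
import Mathlib.RingTheory.SimpleModule.Isotypic
import Mathlib.LinearAlgebra.Matrix.ToLin
import Mathlib.RingTheory.SimpleRing.Matrix
import Mathlib.RingTheory.Artinian.Module

/-!
Modules over a finite-dimensional simple algebra: they are classified by their dimension,
and the endomorphism algebra is simple of dimension `(dim M)^2 / dim R`.
-/

universe u v w

namespace Groth.Agent.CSAStruct

variable (k : Type u) [Field k] (R : Type v) [Ring R] [Algebra k R] [IsSimpleRing R]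
  [FiniteDimensional k R]

include k in
theorem isSemisimpleRing : IsSemisimpleRing R := by
  have : IsArtinianRing R := IsArtinianRing.of_finite k R
  infer_instance

include k in
theorem exists_simple_ideal : ∃ S : Submodule R R, IsSimpleModule R S := by
  haveI := isSemisimpleRing k R
  obtain ⟨S, hS⟩ := IsAtomic.exists_atom (Submodule R R)
  exact ⟨S, isSimpleModule_iff_isAtom.2 hS⟩

section
variable (M : Type w) [AddCommGroup M] [Module k M] [Module R M] [IsScalarTower k R M]
  [FiniteDimensional k M]

include k in
theorem exists_linearEquiv_fun (S : Type*) [AddCommGroup S] [Module R S] [IsSimpleModule R S] :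
    ∃ n : ℕ, Nonempty (M ≃ₗ[R] Fin n → S) := by
  haveI : IsArtinianRing R := IsArtinianRing.of_finite k R
  haveI : IsSemisimpleRing R := isSemisimpleRing k R
  haveI : Module.Finite R M := Module.Finite.of_restrictScalars_finite k R M
  have h : IsIsotypicOfType R M S := by
    intro m _
    obtain ⟨I, ⟨e⟩⟩ := IsSemisimpleRing.exists_linearEquiv_ideal_of_isSimpleModule R m
    obtain ⟨J, ⟨e'⟩⟩ := IsSemisimpleRing.exists_linearEquiv_ideal_of_isSimpleModule R S
    haveI := IsSimpleModule.congr e.symm
    haveI := IsSimpleModule.congr e'.symm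
    obtain ⟨f⟩ := IsSimpleRing.isIsotypic R R J I
    exact ⟨(e.trans f).trans e'.symm⟩
  exact h.linearEquiv_fun

theorem exists_finrank_eq_mul (S : Type*) [AddCommGroup S] [Module k S] [Module R S]
    [IsScalarTower k R S] [IsSimpleModule R S] [FiniteDimensional k S] :
    ∃ n : ℕ, Nonempty (M ≃ₗ[R] Fin n → S) ∧ Module.finrank k M = n * Module.finrank k S := by
  obtain ⟨n, ⟨e⟩⟩ := exists_linearEquiv_fun k R M S
  refine ⟨n, ⟨e⟩, ?_⟩
  rw [(e.restrictScalars k).finrank_eq, Module.finrank_pi_fintype, Finset.sum_const,
    Finset.card_fin, smul_eq_mul]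

end

theorem nonempty_linearEquiv_of_finrank_eq (M N : Type*) [AddCommGroup M] [Module k M]
    [Module R M] [IsScalarTower k R M] [FiniteDimensional k M] [AddCommGroup N] [Module k N]
    [Module R N] [IsScalarTower k R N] [FiniteDimensional k N]
    (h : Module.finrank k M = Module.finrank k N) : Nonempty (M ≃ₗ[R] N) := by
  obtain ⟨S, hS⟩ := exists_simple_ideal k R
  haveI : FiniteDimensional k S := Module.Finite.of_injective (S.subtype.restrictScalars k) Subtype.val_injective
  haveI := IsSimpleModule.nontrivial R S
  obtain ⟨m, ⟨e⟩, hm⟩ := exists_finrank_eq_mul k R M S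
  obtain ⟨n, ⟨e'⟩, hn⟩ := exists_finrank_eq_mul k R N S
  rw [hm, hn] at h
  obtain rfl : m = n := Nat.eq_of_mul_eq_mul_right Module.finrank_pos h
  exact ⟨e.trans e'.symm⟩

/-- A vector space with an action of `R` given by `ρ`. -/
def RepSpace {V : Type w} [AddCommGroup V] [Module k V] (_ρ : R →ₐ[k] Module.End k V) : Type w := V

namespace RepSpace

variable {V : Type w} [AddCommGroup V] [Module k V] (ρ : R →ₐ[k] Module.End k V)

instance : AddCommGroup (RepSpace k R ρ) := inferInstanceAs (AddCommGroup V)
instance : Module k (RepSpace k R ρ) := inferInstanceAs (Module k V)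
noncomputable instance : Module R (RepSpace k R ρ) := Module.compHom V (ρ : R →+* Module.End k V)

omit [IsSimpleRing R] [FiniteDimensional k R] in
theorem smul_def (r : R) (x : RepSpace k R ρ) : r • x = ρ r (x : V) := rfl

instance : IsScalarTower k R (RepSpace k R ρ) :=
  ⟨fun c r x => by
    change ρ (c • r) (x : V) = c • (ρ r (x : V))
    rw [map_smul]
    rfl⟩

instance [FiniteDimensional k V] : FiniteDimensional k (RepSpace k R ρ) :=
  inferInstanceAs (FiniteDimensional k V)

end RepSpace

/-- Two representations of a simple algebra of the same dimension are conjugate. -/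
theorem exists_intertwiner {V V' : Type w} [AddCommGroup V] [Module k V] [AddCommGroup V']
    [Module k V'] [FiniteDimensional k V] [FiniteDimensional k V']
    (ρ : R →ₐ[k] Module.End k V) (ρ' : R →ₐ[k] Module.End k V')
    (h : Module.finrank k V = Module.finrank k V') :
    ∃ e : V ≃ₗ[k] V', ∀ r v, e (ρ r v) = ρ' r (e v) := by
  
  have hh : Nonempty (RepSpace k R ρ ≃ₗ[R] RepSpace k R ρ') :=
    nonempty_linearEquiv_of_finrank_eq (k := k) (R := R) (M := RepSpace k R ρ) (N := RepSpace k R ρ') h
  obtain ⟨e⟩ := hh
  exact ⟨e.restrictScalars k, fun r v => e.map_smul r (v : RepSpace k R ρ)⟩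

section
variable (M : Type w) [AddCommGroup M] [Module k M] [Module R M] [IsScalarTower k R M]
  [FiniteDimensional k M]

theorem finrank_end_mul_finrank :
    Module.finrank k (Module.End R M) * Module.finrank k R = Module.finrank k M ^ 2 := by
  classical
  obtain ⟨S, hS⟩ := exists_simple_ideal k R
  haveI : FiniteDimensional k S := Module.Finite.of_injective (S.subtype.restrictScalars k) Subtype.val_injective
  haveI := IsSimpleModule.nontrivial R S
  obtain ⟨m, ⟨e⟩, hm⟩ := exists_finrank_eq_mul k R M S
  obtain ⟨r, ⟨f⟩, hr⟩ := exists_finrank_eq_mul k R R S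
  have hM : Module.finrank k (Module.End R M) = m * m * Module.finrank k (Module.End R S) := by
    rw [((e.conjAlgEquiv k).trans (endVecAlgEquivMatrixEnd (Fin m) k R S)).toLinearEquiv.finrank_eq,
      Module.finrank_matrix, Fintype.card_fin]
  have hR : Module.finrank k (Module.End R R) = r * r * Module.finrank k (Module.End R S) := by
    rw [((f.conjAlgEquiv k).trans (endVecAlgEquivMatrixEnd (Fin r) k R S)).toLinearEquiv.finrank_eq,
      Module.finrank_matrix, Fintype.card_fin]
  rw [(LinearMap.ringLmapEquivSelf R k R).finrank_eq] at hR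
  have hr0 : 0 < r := by
    rcases Nat.eq_zero_or_pos r with rfl | h
    · have : 0 < Module.finrank k R := Module.finrank_pos
      rw [hr] at this; simp at this
    · exact h
  have hs : r * Module.finrank k (Module.End R S) = Module.finrank k S := by
    apply Nat.eq_of_mul_eq_mul_left hr0
    rw [← hr, hR, Nat.mul_assoc]
  rw [hM, hm, hR, ← hs]
  ring

include k in
theorem isSimpleRing_end [Nontrivial M] : IsSimpleRing (Module.End R M) := by
  classical
  obtain ⟨S, hS⟩ := exists_simple_ideal k R
  obtain ⟨m, ⟨e⟩⟩ := exists_linearEquiv_fun k R M S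
  haveI : Nonempty (Fin m) := by
    rcases Nat.eq_zero_or_pos m with rfl | h
    · exact absurd e.subsingleton (not_subsingleton M)
    · exact ⟨⟨0, h⟩⟩
  exact IsSimpleRing.of_ringEquiv
    ((e.conjAlgEquiv k).trans (endVecAlgEquivMatrixEnd (Fin m) k R S)).symm.toRingEquiv inferInstance

end

end Groth.Agent.CSAStruct
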